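import Cfsg.Agent.Lib.Solvable.Frattini
import Cfsg.Agent.Lib.Solvable.Hall
import Cfsg.Agent.Lib.Perm.Basic
import Cfsg.Agent.Lib.Solvable.CoprimeAction

/-!
Core-free maximal subgroups and primitive solvable groups.
-/

set_option autoImplicit false

open Subgroup
open scoped Pointwise

namespace CfsgLib.CoreFree

variable {G : Type*} [Group G]

theorem sup_eq_top {U : Subgroup G} (hU : IsCoatom U) (hc : U.normalCore = ⊥) (N : Subgroup G)
    [N.Normal] (hN : N ≠ ⊥) : N ⊔ U = ⊤ :=
  hU.2 _ (right_lt_sup.mpr fun h => hN (eq_bot_iff.mpr (hc ▸ normal_le_normalCore.mpr h)))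

theorem centralizer_inf_eq_bot {U : Subgroup G} (hU : IsCoatom U) (hc : U.normalCore = ⊥)
    (N : Subgroup G) [N.Normal] (hN : N ≠ ⊥) : centralizer (N : Set G) ⊓ U = ⊥ := by
  set X := centralizer (N : Set G) ⊓ U
  have hn : X.Normal := by
    rw [← normalizer_eq_top_iff, eq_top_iff, ← sup_eq_top hU hc N hN]
    refine sup_le ?_ ?_
    · refine le_trans ?_ (centralizer_le_normalizer (X : Set G))
      rw [le_centralizer_iff]
      exact inf_le_left
    · refine fun u hu => mem_normalizer_iff.mpr fun x => ?_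
      have h1 := mem_normalizer_iff.mp (show u ∈ normalizer (U : Set G) from le_normalizer hu) x
      have h2 := mem_normalizer_iff.mp (show u ∈ normalizer ((centralizer (N : Set G) : Subgroup G) : Set G)
        from normalizer_eq_top (centralizer (N : Set G)) ▸ mem_top u) x
      simp only [X, mem_inf]
      rw [h1, h2]
  exact eq_bot_iff.mpr (hc ▸ normal_le_normalCore.mpr inf_le_right)

theorem centralizer_minimal {U : Subgroup G} (hU : IsCoatom U) (hc : U.normalCore = ⊥)
    (N : Subgroup G) [N.Normal] (hN : N ≠ ⊥) (K : Subgroup G) [K.Normal]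
    (hK : K ≤ centralizer (N : Set G)) : K = ⊥ ∨ K = centralizer (N : Set G) := by
  refine or_iff_not_imp_left.mpr fun hK0 => le_antisymm hK fun c hc' => ?_
  obtain ⟨k, hk, u, hu, rfl⟩ := mem_sup_of_normal_left.mp
    (sup_eq_top hU hc K hK0 ▸ mem_top c : c ∈ K ⊔ U)
  have h1 : u ∈ centralizer (N : Set G) ⊓ U :=
    mem_inf.mpr ⟨by simpa using mul_mem (inv_mem (hK hk)) hc', hu⟩
  rw [centralizer_inf_eq_bot hU hc N hN, mem_bot] at h1
  rwa [h1, mul_one]

/-- Two complements-type subgroups with the same join over `A` are isomorphic. -/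
theorem equiv_of_sup_eq (A X Y : Subgroup G) [A.Normal] (hX : A ⊓ X = ⊥) (hY : A ⊓ Y = ⊥)
    (h : A ⊔ X = A ⊔ Y) : Nonempty (X ≃* Y) := by
  have key : ∀ Z : Subgroup G, A ⊓ Z = ⊥ →
      Function.Injective ((QuotientGroup.mk' A).domRestrict Z) := fun Z hZ => by
    rw [← MonoidHom.ker_eq_bot_iff, MonoidHom.ker_domRestrict, QuotientGroup.ker_mk',
      subgroupOf_eq_bot, disjoint_iff]
    exact hZ
  have hr : ((QuotientGroup.mk' A).domRestrict X).range =
      ((QuotientGroup.mk' A).domRestrict Y).range := by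
    rw [MonoidHom.domRestrict_range, MonoidHom.domRestrict_range]
    have := congrArg (Subgroup.map (QuotientGroup.mk' A)) h
    rwa [Subgroup.map_sup, Subgroup.map_sup, QuotientGroup.map_mk'_self, bot_sup_eq, bot_sup_eq]
      at this
  exact ⟨(MonoidHom.ofInjective (key X hX)).trans
    ((MulEquiv.subgroupCongr hr).trans (MonoidHom.ofInjective (key Y hY)).symm)⟩

theorem isMulCommutative_iff_le_centralizer {A : Subgroup G} :
    IsMulCommutative A ↔ A ≤ centralizer (A : Set G) :=
  ⟨fun h a ha => mem_centralizer_iff.mpr fun b hb =>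
      congrArg Subtype.val (h.is_comm.comm ⟨b, hb⟩ ⟨a, ha⟩),
    fun h => ⟨⟨fun a b => Subtype.ext (mem_centralizer_iff.mp (h b.2) a a.2)⟩⟩⟩

/-- Two distinct minimal normal subgroups. -/
theorem two_minimal {U : Subgroup G} (hU : IsCoatom U) (hc : U.normalCore = ⊥)
    (A B : Subgroup G) [A.Normal] [B.Normal] (hA : A ≠ ⊥) (hB : B ≠ ⊥)
    (hAmin : ∀ K : Subgroup G, K.Normal → K ≤ A → K = ⊥ ∨ K = A)
    (hBmin : ∀ K : Subgroup G, K.Normal → K ≤ B → K = ⊥ ∨ K = B) (hAB : A ≠ B) :
    centralizer (B : Set G) = A ∧ centralizer (A : Set G) = B ∧ IsComplement' A U ∧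
      IsComplement' B U ∧ ¬ IsMulCommutative A ∧ Nonempty (A ≃* B) ∧
      Nonempty (A ≃* ↥((A ⊔ B) ⊓ U)) := by
  have hdis : A ⊓ B = ⊥ := by
    rcases hAmin (A ⊓ B) inferInstance inf_le_left with h | h
    · exact h
    · rcases hBmin (A ⊓ B) inferInstance inf_le_right with h' | h'
      · exact h'
      · exact absurd (h.symm.trans h') hAB
  have hcomm : A ≤ centralizer (B : Set G) := fun a ha => mem_centralizer_iff.mpr fun b hb =>
    (commute_of_normal_of_disjoint A B inferInstance inferInstance (disjoint_iff.mpr hdis) a b ha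
      hb).eq.symm
  have hcomm' : B ≤ centralizer (A : Set G) := le_centralizer_iff.mp hcomm
  have hCB : centralizer (B : Set G) = A :=
    ((centralizer_minimal hU hc B hB A hcomm).resolve_left hA).symm
  have hCA : centralizer (A : Set G) = B :=
    ((centralizer_minimal hU hc A hA B hcomm').resolve_left hB).symm
  have hAU : A ⊓ U = ⊥ := hCB ▸ centralizer_inf_eq_bot hU hc B hB
  have hBU : B ⊓ U = ⊥ := hCA ▸ centralizer_inf_eq_bot hU hc A hA
  have hAt := sup_eq_top hU hc A hA
  have hBt := sup_eq_top hU hc B hB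
  have hcA : IsComplement' A U := CfsgLib.Solvable.isComplement'_of_sup_eq_top hAt (disjoint_iff.mpr hAU)
  have hcB : IsComplement' B U := CfsgLib.Solvable.isComplement'_of_sup_eq_top hBt (disjoint_iff.mpr hBU)
  have hna : ¬ IsMulCommutative A := fun h => hA (by
    have h1 : A ≤ B := hCA ▸ isMulCommutative_iff_le_centralizer.mp h
    rwa [inf_eq_left.mpr h1] at hdis)
  set D := (A ⊔ B) ⊓ U
  have hU' : ∀ N : Subgroup G, U ≤ normalizer (N : Set G) → N.Normal → N ⊔ U = ⊤ → N ≤ A ⊔ B →
      N ⊔ D = A ⊔ B := fun N hn _ htop hle => by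
    rw [show D = U ⊓ (A ⊔ B) from inf_comm _ _]
    exact CfsgLib.Solvable.sup_inf_eq_of_le hn hle (htop ▸ le_top)
  have hAD : A ⊔ D = A ⊔ B :=
    hU' A ((normalizer_eq_top A).ge.trans' le_top) inferInstance hAt le_sup_left
  have hBD : B ⊔ D = B ⊔ A := (hU' B ((normalizer_eq_top B).ge.trans' le_top) inferInstance hBt
    le_sup_right).trans (sup_comm A B)
  obtain ⟨e1⟩ := equiv_of_sup_eq A D B
    (eq_bot_iff.mpr (hAU ▸ inf_le_inf_left A inf_le_right)) hdis hAD
  obtain ⟨e2⟩ := equiv_of_sup_eq B A D (inf_comm A B ▸ hdis)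
    (eq_bot_iff.mpr (hBU ▸ inf_le_inf_left B inf_le_right)) hBD.symm
  exact ⟨hCB, hCA, hcA, hcB, hna, ⟨e2.trans e1⟩, ⟨e2⟩⟩

/-- Core-free maximal subgroups of a finite solvable group are conjugate. -/
theorem conjugate_of_solvable [Finite G] [Group.IsSolvable G] {U V : Subgroup G} (hU : IsCoatom U)
    (hV : IsCoatom V) (hUc : U.normalCore = ⊥) (hVc : V.normalCore = ⊥) :
    ∃ g : G, MulAut.conj g • U = V := by
  cases subsingleton_or_nontrivial G with
  | inl h => exact ⟨1, Subsingleton.elim _ _⟩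
  | inr h =>
    obtain ⟨N, hNn, hN0, -, hNmin⟩ :=
      CfsgLib.Solvable.exists_minimal_normal_le (⊤ : Subgroup G) top_ne_bot
    obtain ⟨hab, p, hp, hexp⟩ := CfsgLib.Solvable.minimal_normal_elementary_abelian N hN0 hNmin
    have := Fact.mk hp
    have hNp : IsPGroup p N := fun x => ⟨1, Subtype.ext (by simpa using hexp x x.2)⟩
    have hCN : centralizer (N : Set G) = N :=
      ((centralizer_minimal hU hUc N hN0 N (isMulCommutative_iff_le_centralizer.mp hab)).resolve_left
        hN0).symm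
    have hUN : N ⊓ U = ⊥ := hCN ▸ centralizer_inf_eq_bot hU hUc N hN0
    have hVN : N ⊓ V = ⊥ := hCN ▸ centralizer_inf_eq_bot hV hVc N hN0
    by_cases htop : N = ⊤
    · rw [htop, top_inf_eq] at hUN hVN
      exact ⟨1, by rw [hUN, hVN]; simp⟩
    have : Nontrivial (G ⧸ N) := QuotientGroup.nontrivial_iff.mpr htop
    obtain ⟨q, M', hq, hM'n, hM'q, hM'0⟩ :=
      CfsgLib.Solvable.exists_normal_pgroup_ne_bot (G := G ⧸ N)
    have := Fact.mk hq
    set M := M'.comap (QuotientGroup.mk' N)
    have hNM : N ≤ M := fun x hx => by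
      rw [mem_comap, show QuotientGroup.mk' N x = 1 from (QuotientGroup.eq_one_iff x).mpr hx]
      exact one_mem M'
    have hMN : ¬ M ≤ N := fun h => hM'0 (by
      rw [← map_comap_eq_self_of_surjective (QuotientGroup.mk'_surjective N) M', eq_bot_iff]
      exact (map_mono h).trans (QuotientGroup.map_mk'_self N).le)
    obtain ⟨i, hi⟩ := IsPGroup.iff_card.mp hNp
    obtain ⟨j, hj⟩ := IsPGroup.iff_card.mp hM'q
    have hMc : Nat.card M = p ^ i * q ^ j := by
      rw [CfsgLib.Solvable.card_comap_mk', hi, hj]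
    have hqp : q ≠ p := by
      rintro rfl
      have hMq : IsPGroup q M := IsPGroup.of_card (hMc.trans (pow_add _ _ _).symm)
      have hne : N.subgroupOf M ≠ ⊥ := fun h => hN0 (by
        rw [← map_subgroupOf_eq_of_le hNM, h, Subgroup.map_bot])
      obtain ⟨z, hz, hz1⟩ := CfsgLib.Solvable.exists_ne_one_mem_inf_center_of_normal hMq hne
      have hne' : N ⊓ centralizer (M : Set G) ≠ ⊥ := fun h => hz1 (Subtype.ext (mem_bot.mp
        (h ▸ mem_inf.mpr ⟨mem_subgroupOf.mp hz.1, mem_centralizer_iff.mpr fun y hy =>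
          congrArg Subtype.val (mem_center_iff.mp hz.2 ⟨y, hy⟩)⟩)))
      rcases hNmin _ inferInstance (inf_le_left : N ⊓ centralizer (M : Set G) ≤ N) with h1 | h1
      · exact hne' h1
      · exact hMN ((le_centralizer_iff.mp (inf_eq_left.mp h1)).trans hCN.le)
    have key : ∀ W : Subgroup G, N ⊔ W = ⊤ → N ⊓ W = ⊥ → Nat.card (M ⊓ W : Subgroup G) = q ^ j := by
      intro W hW hW'
      have h1 : N ⊔ (W ⊓ M) = M := CfsgLib.Solvable.sup_inf_eq_of_le
        ((normalizer_eq_top N).ge.trans' le_top) hNM (hW ▸ le_top)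
      have h2 := CfsgLib.Solvable.card_sup_of_disjoint (N := N) (H := W ⊓ M)
        ((normalizer_eq_top N).ge.trans' le_top)
        (disjoint_iff.mpr (eq_bot_iff.mpr (hW' ▸ inf_le_inf_left N inf_le_left)))
      rw [h1, hMc, hi, inf_comm] at h2
      exact (Nat.eq_of_mul_eq_mul_left (pow_pos hp.pos i) h2).symm
    have hcU := key U (sup_eq_top hU hUc N hN0) hUN
    have hcV := key V (sup_eq_top hV hVc N hN0) hVN
    have hfac : (Nat.card M).factorization q = j := by
      rw [hMc, Nat.factorization_mul (pow_pos hp.pos i).ne' (pow_pos hq.pos j).ne',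
        hp.factorization_pow, hq.factorization_pow]
      simp [hqp.symm]
    have hQ : ∀ W : Subgroup G, Nat.card (M ⊓ W : Subgroup G) = q ^ j →
        ∃ Q : Sylow q M, (Q : Subgroup M).map M.subtype = M ⊓ W := fun W hW =>
      ⟨Sylow.ofCard ((M ⊓ W).subgroupOf M) (by
        rw [Nat.card_congr (subgroupOfEquivOfLe inf_le_left).toEquiv, hW, hfac]),
        by rw [Sylow.coe_ofCard, map_subgroupOf_eq_of_le inf_le_left]⟩
    obtain ⟨QU, hQU⟩ := hQ U hcU
    obtain ⟨QV, hQV⟩ := hQ V hcV
    obtain ⟨m, hm⟩ := MulAction.exists_smul_eq M QU QV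
    have hn : ∀ W : Subgroup G, IsCoatom W → W.normalCore = ⊥ → M ⊓ W ≠ ⊥ →
        normalizer ((M ⊓ W : Subgroup G) : Set G) = W := by
      intro W hW hWc hne
      refine ((hW.le_iff.mp ?_).resolve_left fun h => hne ?_)
      · intro w hw
        rw [mem_normalizer_iff]
        intro x
        rw [mem_inf, mem_inf, mem_normalizer_iff.mp
          (show w ∈ normalizer (M : Set G) from normalizer_eq_top M ▸ mem_top w) x,
          mem_normalizer_iff.mp (show w ∈ normalizer (W : Set G) from le_normalizer hw) x]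
      · have := normalizer_eq_top_iff.mp h
        exact eq_bot_iff.mpr (hWc ▸ normal_le_normalCore.mpr inf_le_right)
    have hj0 : 1 < q ^ j := hj ▸ (one_lt_card_iff_ne_bot M').mpr hM'0
    have hUne : M ⊓ U ≠ ⊥ := fun h => by rw [h, card_bot] at hcU; omega
    have hVne : M ⊓ V ≠ ⊥ := fun h => by rw [h, card_bot] at hcV; omega
    refine ⟨m, ?_⟩
    rw [← hn U hU hUc hUne, ← hn V hV hVc hVne, ← hQU, ← hQV, ← hm]
    rw [Sylow.coe_subgroup_smul, CfsgLib.Solvable.map_conj_smul]
    rw [CfsgLib.Solvable.conj_smul_eq_map, CfsgLib.Solvable.conj_smul_eq_map,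
      map_equiv_normalizer_eq]
    rfl

variable {Ω : Type*} [MulAction G Ω]

open MulAction in
theorem primitive_complement [Finite G] [Group.IsSolvable G] [FaithfulSMul G Ω]
    (hprim : MulAction.IsPreprimitive G Ω) (M : Subgroup G) [M.Normal] (hM : M ≠ ⊥)
    (hmin : ∀ K : Subgroup G, K.Normal → K ≤ M → K = ⊥ ∨ K = M) (ω : Ω) :
    M.IsComplement' (stabilizer G ω) ∧ stabilizer G ω ⊓ centralizer (M : Set G) = ⊥ ∧
      ∀ K : Subgroup G, K ≤ M → stabilizer G ω ≤ normalizer (K : Set G) → K = ⊥ ∨ K = M := by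
  have ht := CfsgLib.Perm.isPretransitive_of_normal (α := Ω) M hM
  obtain ⟨hab, -⟩ := CfsgLib.Solvable.minimal_normal_elementary_abelian M hM hmin
  have hcomp : M.IsComplement' (stabilizer G ω) := by
    refine isComplement'_of_disjoint_and_mul_eq_univ ?_ ?_
    · rw [disjoint_iff, eq_bot_iff]
      rintro x ⟨hx, hxs⟩
      have h1 : (⟨x, hx⟩ : M) ∈ stabilizer M ω := hxs
      rw [CfsgLib.Perm.stabilizer_eq_bot_of_commutative M hab ω, mem_bot] at h1
      exact mem_bot.mpr (congrArg Subtype.val h1)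
    · refine Set.eq_univ_of_forall fun g => ?_
      obtain ⟨m, hm⟩ := exists_smul_eq M ω (g • ω)
      refine ⟨m, m.2, (m : G)⁻¹ * g, ?_, by simp⟩
      show ((m : G)⁻¹ * g) • ω = ω
      rw [mul_smul, ← hm]
      exact inv_smul_smul (m : G) ω
  refine ⟨hcomp, ?_, fun K hK hn => ?_⟩
  · rw [eq_bot_iff]
    rintro x ⟨hxs, hxc⟩
    refine mem_bot.mpr (CfsgLib.Perm.eq_one_of_commute_transitive M (c := x) (a := ω)
      (fun m hm => ?_) hxs)
    exact (mem_centralizer_iff.mp hxc m hm)
  · refine hmin K ?_ hK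
    rw [← normalizer_eq_top_iff, eq_top_iff, ← hcomp.sup_eq_top]
    refine sup_le ?_ hn
    refine le_trans ?_ (centralizer_le_normalizer (K : Set G))
    exact (isMulCommutative_iff_le_centralizer.mp hab).trans (centralizer_le hK)

end CfsgLib.CoreFree
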